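import Groth.Agent.JacTors.SplitTorsion
import Groth.Agent.W7Cover.Separable
import Groth.Agent.W7FlatBC.Sections
import Groth.Agent.DimField.Scheme
import Groth.Agent.CurveOmega.General
import Groth.Agent.WeilLib.Iterate

/-!
Full torsion of the Picard group of a curve over a bounded separable extension.
-/

set_option autoImplicit false
set_option backward.isDefEq.respectTransparency false
set_option backward.isDefEq.respectTransparency.types false
set_option linter.style.haveILetI false
set_option linter.unusedSectionVars false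
set_option maxHeartbeats 1000000

universe u

open CategoryTheory CategoryTheory.Limits AlgebraicGeometry
open PicF Groth.Agent.PicCurve Groth.Agent.CohFinite

noncomputable section

namespace Groth.Agent.JacTors

variable (k : Type u) [Field k] (X : Scheme.{u}) [X.Over (Spec (CommRingCat.of k))] [IsIntegral X]
  [IsProper (X ↘ Spec (CommRingCat.of k))] [Smooth (X ↘ Spec (CommRingCat.of k))]

/-- The genus is unchanged by an extension of the ground field. -/
theorem genus_bc (K : Type u) [Field K] [Algebra k K] :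
    letI : (Curv2.bc k X K).Over (Spec (CommRingCat.of K)) := ⟨Curv2.bcSnd k X K⟩
    Curv2.genus K (Curv2.bc k X K) = Curv2.genus k X := by
  letI : (Curv2.bc k X K).Over (Spec (CommRingCat.of K)) := ⟨Curv2.bcSnd k X K⟩
  haveI := CurveRR.isNoetherian_of_proper k X
  haveI : Module.Free k (Coh.HH X (Coh.structureModule X) 1) := Module.Free.of_divisionRing k _
  obtain ⟨e⟩ := W7FlatBC.nonempty_hh_baseChange k K (X := X) (X' := Curv2.bc k X K) (Curv2.bcFst k X K)
    (IsPullback.of_hasPullback _ _) (Coh.structureModule X) RefStalk.isCoh_structureModule.1 1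
  exact (CurveRR.h_eq_of_iso (PicLoc.pullbackStructureIso (Curv2.bcFst k X K)) 1).symm.trans
    (e.finrank_eq.symm.trans (Module.finrank_baseChange (R := K)))

/-- A curve with a point over a separable extension gets full torsion over a bounded further one. -/
theorem exists_full_torsion (hdim : topologicalKrullDim X = 1)
    (h0 : Module.finrank k (Coh.HH X (Coh.structureModule X) 0) = 1)
    (k₁ : Type u) [Field k₁] [Algebra k k₁] [FiniteDimensional k k₁] [Algebra.IsSeparable k k₁]
    (s : Spec (CommRingCat.of k₁) ⟶ X)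
    (hs : s ≫ (X ↘ Spec (CommRingCat.of k)) = Spec.map (CommRingCat.ofHom (algebraMap k k₁)))
    (n : ℕ) (hn : IsUnit (n : k)) :
    ∃ (k' : Type u) (_ : Field k') (_ : Algebra k k'), FiniteDimensional k k' ∧ Algebra.IsSeparable k k' ∧
      Module.finrank k k' ≤ Module.finrank k k₁ * Nat.factorial (n ^ (2 * Curv2.genus k X)) ∧
      (∃ x : Spec (CommRingCat.of k') ⟶ Curv2.bc k X k', x ≫ Curv2.bcSnd k X k' = 𝟙 _) ∧
      Nat.card {c : PicF.Cl (Curv2.bc k X k') | ∃ M : Scheme.Modules (Curv2.bc k X k'), PicF.cl M = c ∧ PicF.IsInvertible M ∧ Nonempty (CohB1.tensorPow M (n) ≅ Coh.structureModule (Curv2.bc k X k'))} = n ^ (2 * Curv2.genus k X) := by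
  let f := X ↘ Spec (CommRingCat.of k)
  haveI : GeometricallyConnected f := W7Cover.geometricallyConnected_of_h0 h0
  haveI := ClosedRep.GeomIntegral.geometricallyIntegral_of_smooth f
  let Y := Curv2.bc k X k₁
  let fY : Y ⟶ Spec (CommRingCat.of k₁) := Curv2.bcSnd k X k₁
  letI : Y.Over (Spec (CommRingCat.of k₁)) := ⟨fY⟩
  haveI : IsProper fY := inferInstanceAs (IsProper (pullback.snd f _))
  haveI : Smooth fY := inferInstanceAs (Smooth (pullback.snd f _))
  haveI : GeometricallyConnected fY := inferInstanceAs (GeometricallyConnected (pullback.snd f _))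
  haveI : GeometricallyIntegral fY := inferInstanceAs (GeometricallyIntegral (pullback.snd f _))
  haveI : Subsingleton (Spec (CommRingCat.of k₁)) := inferInstanceAs (Subsingleton (PrimeSpectrum k₁))
  haveI : Subsingleton (Spec (CommRingCat.of k)) := inferInstanceAs (Subsingleton (PrimeSpectrum k))
  haveI : IsIntegral Y := GeometricallyIntegral.isIntegral_of_subsingleton fY
  have hdY : topologicalKrullDim Y = 1 :=
    (DimField.dim_eq_of_isPullback f fY (Curv2.bcFst k X k₁) _ (IsPullback.of_hasPullback _ _)).symm.trans hdim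
  have hgY : Curv2.genus k₁ Y = Curv2.genus k X := genus_bc k X k₁
  haveI := AlgEquivCurve.smoothOfRelativeDimension_one fY hdY
  let σ : Spec (CommRingCat.of k₁) ⟶ Y := pullback.lift s (𝟙 _) (by rw [hs, Category.id_comp])
  have hσ : σ ≫ fY = 𝟙 _ := pullback.lift_snd _ _ _
  obtain ⟨W, G, ξ, hp, hsm, hgi, hW, h1, h0', hc, hmul⟩ := exists_jac fY σ hσ hdY
  letI := G
  haveI := hp
  haveI := hgi
  haveI : IsCommMonObj W := isCommMonObj_of_isProper_of_geometricallyIntegral W
  have hn₁ : (n : k₁) ≠ 0 := by
    rw [← map_natCast (algebraMap k k₁)]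
    exact fun h => hn.ne_zero ((algebraMap k k₁).injective (h.trans (map_zero _).symm))
  rw [← hgY]
  obtain ⟨L, iL, iA, hfd, hsep, hdeg, hcard⟩ := exists_split_torsion W n hW hn₁
  letI := iL
  letI := iA
  letI : Algebra k L := ((algebraMap k₁ L).comp (algebraMap k k₁)).toAlgebra
  haveI : IsScalarTower k k₁ L := IsScalarTower.of_algebraMap_eq fun _ => rfl
  haveI := hfd
  haveI := hsep
  haveI : FiniteDimensional k L := Module.Finite.trans k₁ L
  refine ⟨L, iL, inferInstance, inferInstance, Algebra.IsSeparable.trans k k₁ L, ?_, ?_, ?_⟩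
  · rw [← Module.finrank_mul_finrank k k₁ L]
    exact Nat.mul_le_mul_left _ hdeg
  · refine ⟨pullback.lift (Spec.map (CommRingCat.ofHom (algebraMap k₁ L)) ≫ s) (𝟙 _) ?_, pullback.lift_snd _ _ _⟩
    rw [Category.assoc, hs, Category.id_comp, ← Spec.map_comp]
    rfl
  · let e : XT fY (SGA7.pt (K := k₁) L) ≅ Curv2.bc k X L :=
      pullbackLeftPullbackSndIso f (Spec.map (CommRingCat.ofHom (algebraMap k k₁)))
        (Spec.map (CommRingCat.ofHom (algebraMap k₁ L))) ≪≫ pullback.congrHom rfl (by
          rw [← Spec.map_comp]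
          rfl)
    rw [Nat.card_congr (clEquiv (Curv2.bc k X L) n), natCard_torsion_congr e n,
      natCard_torsion_eq fY σ hσ hdY ξ h1 h0' hc hmul L (fun h => hn₁ (by rw [h, Nat.cast_zero])), hcard]

variable {k X}

attribute [local instance] Curv2.resAlgebra

/-- The point with values in the residue field. -/
theorem fromSpecResidueField_over (x : X) : X.fromSpecResidueField x ≫ (X ↘ Spec (CommRingCat.of k)) =
    Spec.map (CommRingCat.ofHom (algebraMap k (X.residueField x))) := by
  rw [WeilLib.fromSpecResidueField_comp]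
  congr 2
  refine RingHom.ext fun a => ?_
  show X.evaluation ⊤ x trivial ((X ↘ Spec (CommRingCat.of k)).appLE ⊤ ⊤ le_top
    ((Scheme.ΓSpecIso (CommRingCat.of k)).inv a)) = X.residue x (X.presheaf.germ ⊤ x trivial
    ((X ↘ Spec (CommRingCat.of k)).appTop ((Scheme.ΓSpecIso (CommRingCat.of k)).inv a)))
  exact congrArg (fun φ : Γ(Spec (CommRingCat.of k), ⊤) ⟶ Γ(X, ⊤) ↦
    X.evaluation ⊤ x trivial (φ ((Scheme.ΓSpecIso (CommRingCat.of k)).inv a)))
    (Scheme.Hom.appLE_eq_app (X ↘ Spec (CommRingCat.of k)))

end Groth.Agent.JacTors
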