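import Groth.Agent.PicCurve.Albanese
import Groth.Agent.PicCurve.EffSum
import Groth.Agent.AVDeg.TateSat

/-!
Torsion classes on a curve with a rational point as torsion points of its Jacobian.
-/

set_option autoImplicit false
set_option backward.isDefEq.respectTransparency false
set_option backward.isDefEq.respectTransparency.types false
set_option linter.style.haveILetI false
set_option linter.unusedSectionVars false
set_option maxHeartbeats 2000000

universe u

open CategoryTheory CategoryTheory.Limits AlgebraicGeometry TopologicalSpace Opposite MonoidalCategory CartesianMonoidalCategory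
open PicF
open scoped MonObj
open Groth.Agent.W7Cube (pull pull_pull pull_cls)
open Groth.Agent.PicCurve

attribute [local instance] Groth.Agent.W7Cube.law

noncomputable section

namespace Groth.Agent.JacTors

variable {k : Type u} [Field k] {X : Scheme.{u}} (f : X ⟶ Spec (CommRingCat.of k)) [IsProper f]
  [SmoothOfRelativeDimension 1 f] [GeometricallyConnected f] (σ : Spec (CommRingCat.of k) ⟶ X)
  (hσ : σ ≫ f = 𝟙 (Spec (CommRingCat.of k)))
  [GeometricallyIrreducible f] [Smooth f] [IsIntegral X] (hd : topologicalKrullDim X = 1)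

include hσ hd in
/-- The Jacobian in every genus: an abelian variety of dimension the genus whose points are classes. -/
theorem exists_jac :
    ∃ (W : Over (Spec (CommRingCat.of k))) (_ : GrpObj W) (ξ : PicLoc.PicSet (XT f W)),
      IsProper W.hom ∧ Smooth W.hom ∧ GeometricallyIntegral W.hom ∧
      (letI : X.Over (Spec (CommRingCat.of k)) := ⟨f⟩; topologicalKrullDim W.left = Curv2.genus k X) ∧
      pull (secT f σ hσ W) ξ = 1 ∧ Zero f W ξ ∧ Classifies f σ hσ (Zero f) W ξ ∧
      ∀ (T : Over (Spec (CommRingCat.of k))) (p q : T ⟶ W),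
        pull (XTmap f (lift p q ≫ μ[W])) ξ = pull (XTmap f p) ξ * pull (XTmap f q) ξ := by
  have hdim : ∀ z, topologicalKrullDim ↥(f.fiber z) = 1 := fun z => (dim_fiber_spec f z).trans hd
  obtain ⟨W, ξ, hp, hs, hi, hξ1, hξ0, hξ⟩ := exists_degZero_any f hd σ hσ
  haveI := hp
  haveI := hs
  haveI := hi
  haveI : GeometricallyReduced W.hom := Rigid.geometricallyReduced_of_smooth W.hom
  haveI hgi : GeometricallyIntegral W.hom :=
    GeometricallyIntegral.of_geometricallyReduced_of_geometricallyIrreducible W.hom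
  obtain ⟨G, hmul⟩ := exists_grpObj_mul f σ hσ hdim hξ1 hξ0 hξ
  letI := G
  letI : X.Over (Spec (CommRingCat.of k)) := ⟨f⟩
  haveI : IsProper (X ↘ Spec (CommRingCat.of k)) := ‹IsProper f›
  haveI : Smooth (X ↘ Spec (CommRingCat.of k)) := ‹Smooth f›
  haveI : GeometricallyConnected (X ↘ Spec (CommRingCat.of k)) := ‹GeometricallyConnected f›
  haveI : GeometricallyIrreducible (X ↘ Spec (CommRingCat.of k)) := ‹GeometricallyIrreducible f›
  obtain ⟨hc, hdp⟩ := PicInf.Jac.dim_point (C := X) hd (hσ := hσ)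
    ⟨ξ.1, ξ.2, congrArg Subtype.val hξ1⟩ ((hasFibreDegreeZeroCl_iff f hdim W ξ).2 hξ0) (fun T c hc => by
      obtain ⟨u, hu, huu⟩ := hξ T ⟨c.1, c.2.1⟩ (Subtype.ext c.2.2)
        ((hasFibreDegreeZeroCl_iff f hdim T ⟨c.1, c.2.1⟩).1 hc)
      exact ⟨u, congrArg Subtype.val hu, fun u' hu' => huu u' (Subtype.ext hu')⟩)
    (η[W] : 𝟙_ (Over (Spec (CommRingCat.of k))) ⟶ W)
  refine ⟨W, G, ξ, hp, hs, hgi, ?_, hξ1, hξ0, hξ, hmul⟩
  rw [← Groth.Agent.S0354.result k W _ hc, hdp]
  rfl

variable {W : Over (Spec (CommRingCat.of k))} [GrpObj W] [IsCommMonObj W] (ξ : PicLoc.PicSet (XT f W))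
  (hmem : pull (secT f σ hσ W) ξ = 1) (hzero : Zero f W ξ) (hcl : Classifies f σ hσ (Zero f) W ξ)
  (hmul : ∀ (T : Over (Spec (CommRingCat.of k))) (p q : T ⟶ W),
    pull (XTmap f (lift p q ≫ μ[W])) ξ = pull (XTmap f p) ξ * pull (XTmap f q) ξ)

/-- Points as classes. -/
def ptHom (T : Over (Spec (CommRingCat.of k))) : (T ⟶ W) →* PicLoc.PicSet (XT f T) :=
  MonoidHom.mk' (fun p => pull (XTmap f p) ξ) fun p q => hmul T p q

theorem ptHom_apply (T : Over (Spec (CommRingCat.of k))) (p : T ⟶ W) : ptHom f ξ hmul T p = pull (XTmap f p) ξ := rfl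

include hd hmem hzero hcl hmul in
/-- Torsion classes over a field extension are torsion points. -/
theorem natCard_torsion_eq (L : Type u) [Field L] [Algebra k L] {n : ℕ} (hn : n ≠ 0) :
    Nat.card {c : PicLoc.PicSet (XT f (SGA7.pt (K := k) L)) // c ^ n = 1} =
      Nat.card (AbDual.torsPts W n (SGA7.pt (K := k) L)) := by
  have hdim : ∀ z, topologicalKrullDim ↥(f.fiber z) = 1 := fun z => (dim_fiber_spec f z).trans hd
  let T := SGA7.pt (K := k) L
  let φ := ptHom f ξ hmul T
  have hinj : Function.Injective φ := fun p q h => by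
    obtain ⟨u, -, hu⟩ := hcl T (φ p) (pull_secT p hmem) (fun t => (degC_pull f p ξ t).trans (hzero _))
    exact (hu p rfl).trans (hu q h.symm).symm
  symm
  refine Nat.card_eq_of_bijective (fun p : AbDual.torsPts W n T => (⟨φ p.1, by
    rw [← map_pow, (AbDual.mem_torsPts W p.1).1 p.2, map_one]⟩ : {c : PicLoc.PicSet (XT f T) // c ^ n = 1}))
    ⟨fun p q h => Subtype.ext (hinj (congrArg Subtype.val h)), fun c => ?_⟩
  have h1 : pull (secT f σ hσ T) c.1 = 1 :=
    picSet_field_eq_one (k := L) (pull (secT f σ hσ T) c.1)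
  obtain ⟨p, hp, -⟩ := hcl T c.1 h1 fun t => by
    have h := degC_pow f hdim T c.1 n t
    rw [c.2, degC_one f hdim] at h
    exact (mul_eq_zero.1 h.symm).resolve_left (by exact_mod_cast hn)
  refine ⟨⟨p, (AbDual.mem_torsPts W p).2 (hinj ?_)⟩, Subtype.ext hp⟩
  rw [map_pow, map_one, ptHom_apply, hp, c.2]

/-- Torsion classes of modules as torsion elements of the class group. -/
def clEquiv (Y : Scheme.{u}) (n : ℕ) :
    {c : PicF.Cl Y | ∃ M : Scheme.Modules Y, PicF.cl M = c ∧ PicF.IsInvertible M ∧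
      Nonempty (CohB1.tensorPow M n ≅ Coh.structureModule Y)} ≃ {c : PicLoc.PicSet Y // c ^ n = 1} where
  toFun c := ⟨⟨c.1, c.2.choose, c.2.choose_spec.1, c.2.choose_spec.2.1⟩, by
    obtain ⟨h1, h2, ⟨e⟩⟩ := c.2.choose_spec
    rw [show (⟨c.1, c.2.choose, c.2.choose_spec.1, c.2.choose_spec.2.1⟩ : PicLoc.PicSet Y) =
      PicGrp.cls c.2.choose h2 from Subtype.ext h1.symm, ← cls_tensorPow h2 n]
    exact (PicGrp.cls_eq_cls_iff _ TMul.isInvertible_structureModule).2 ⟨e⟩ |>.trans cls_structure⟩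
  invFun c := ⟨c.1.1, by
    obtain ⟨M, hM, hc⟩ := PicGrp.exists_eq_cls c.1
    have h := c.2
    rw [hc, ← cls_tensorPow hM n, ← cls_structure] at h
    exact ⟨M, (congrArg Subtype.val hc).symm, hM,
      (PicGrp.cls_eq_cls_iff _ TMul.isInvertible_structureModule).1 h⟩⟩
  left_inv _ := rfl
  right_inv _ := rfl

end Groth.Agent.JacTors
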