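import Groth.Agent.JacTors.Basic
import Groth.Agent.AVDeg.Torsion
import Groth.Agent.AVDeg.KernelPRank
import Groth.Agent.Rigid.FibreTranslate

/-!
Numbers of torsion classes on curves.
-/

set_option autoImplicit false
set_option backward.isDefEq.respectTransparency false
set_option backward.isDefEq.respectTransparency.types false
set_option linter.style.haveILetI false
set_option linter.unusedSectionVars false
set_option maxHeartbeats 2000000

universe u

open CategoryTheory CategoryTheory.Limits AlgebraicGeometry TopologicalSpace Opposite MonoidalCategory CartesianMonoidalCategory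
open PicF
open scoped MonObj
open Groth.Agent.W7Cube (pull pull_pull pull_cls)
open Groth.Agent.PicCurve

attribute [local instance] Groth.Agent.W7Cube.law

noncomputable section

namespace Groth.Agent.JacTors

theorem pull_id (Y : Scheme.{u}) (c : PicLoc.PicSet Y) : pull (𝟙 Y) c = c := by
  obtain ⟨L, hL, rfl⟩ := PicGrp.exists_eq_cls c
  rw [pull_cls]
  exact (PicGrp.cls_eq_cls_iff _ _).2 ⟨(Scheme.Modules.pullbackId Y).app L⟩

/-- Pullback along an isomorphism. -/
def pullEquiv {Y Z : Scheme.{u}} (e : Y ≅ Z) : PicLoc.PicSet Z ≃* PicLoc.PicSet Y where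
  toFun := pull e.hom
  invFun := pull e.inv
  left_inv c := by rw [pull_pull, e.inv_hom_id, pull_id]
  right_inv c := by rw [pull_pull, e.hom_inv_id, pull_id]
  map_mul' := map_mul _

theorem natCard_torsion_congr {Y Z : Scheme.{u}} (e : Y ≅ Z) (n : ℕ) :
    Nat.card {c : PicLoc.PicSet Z // c ^ n = 1} = Nat.card {c : PicLoc.PicSet Y // c ^ n = 1} :=
  Nat.card_congr ((pullEquiv e).toEquiv.subtypeEquiv fun c => by
    show c ^ n = 1 ↔ pullEquiv e c ^ n = 1
    rw [← map_pow, EmbeddingLike.map_eq_one_iff])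

variable {k : Type u} [Field k]

/-- Torsion points over an algebraically closed extension. -/
theorem natCard_torsPts (W : Over (Spec (CommRingCat.of k))) [GrpObj W] [IsCommMonObj W] [IsProper W.hom]
    [GeometricallyIntegral W.hom] {g : ℕ} (hW : topologicalKrullDim W.left = (g : WithBot ℕ∞)) (Ω : Type u) [Field Ω]
    [IsAlgClosed Ω] [Algebra k Ω] (n : ℕ) :
    Nat.card (AbDual.torsPts W n (SGA7.pt (K := k) Ω)) =
      Nat.card (AVDeg.tors (Additive (AVDeg.one' Ω ⟶ AVDeg.bcK k Ω W)) n) := by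
  let e : (SGA7.pt (K := k) Ω ⟶ W) ≃* (AVDeg.one' Ω ⟶ AVDeg.bcK k Ω W) :=
    { AVDeg.ptsBC Ω with map_mul' := AVDeg.ptsBC_mul Ω }
  refine (Nat.card_congr (e.toEquiv.subtypeEquiv fun a => ?_)).trans
    (Nat.card_congr (AVDeg.torsPtsEquiv (A := AVDeg.bcK k Ω W) n))
  show a ^ n = 1 ↔ e a ^ n = 1
  rw [← map_pow, EmbeddingLike.map_eq_one_iff]

theorem natCard_torsPts_eq (W : Over (Spec (CommRingCat.of k))) [GrpObj W] [IsCommMonObj W] [IsProper W.hom]
    [GeometricallyIntegral W.hom] {g : ℕ} (hW : topologicalKrullDim W.left = (g : WithBot ℕ∞)) (Ω : Type u) [Field Ω]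
    [IsAlgClosed Ω] [Algebra k Ω] {n : ℕ} (hn : (n : Ω) ≠ 0) :
    Nat.card (AbDual.torsPts W n (SGA7.pt (K := k) Ω)) = n ^ (2 * g) := by
  rw [natCard_torsPts W hW Ω n]
  exact AVDeg.natCard_tors (by rw [AVDeg.topologicalKrullDim_bcK]; exact hW) hn

variable [IsAlgClosed k] (X : Scheme.{u}) [X.Over (Spec (CommRingCat.of k))] [IsIntegral X]
  [IsProper (X ↘ Spec (CommRingCat.of k))] [Smooth (X ↘ Spec (CommRingCat.of k))]
  (hdim : topologicalKrullDim X = 1)

include hdim in
/-- Torsion classes of a curve over an algebraically closed field are torsion points of an abelian variety. -/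
theorem exists_torsion_count :
    ∃ (W : Over (Spec (CommRingCat.of k))) (_ : GrpObj W) (_ : IsCommMonObj W) (_ : IsProper W.hom)
      (_ : GeometricallyIntegral W.hom), topologicalKrullDim W.left = Curv2.genus k X ∧
      ∀ n : ℕ, n ≠ 0 → Nat.card {c : PicF.Cl X | ∃ M : Scheme.Modules X, PicF.cl M = c ∧ PicF.IsInvertible M ∧
        Nonempty (CohB1.tensorPow M n ≅ Coh.structureModule X)} =
        Nat.card (AbDual.torsPts W n (SGA7.pt (K := k) k)) := by
  let f := X ↘ Spec (CommRingCat.of k)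
  haveI := CurveRR.isNoetherian_of_proper k X
  obtain ⟨x, -, hx⟩ := isClosed_univ.exists_closed_singleton (S := (Set.univ : Set X)) ⟨genericPoint X, trivial⟩
  let σ := pointOfClosedPoint f x hx
  have hσ : σ ≫ f = 𝟙 _ := pointOfClosedPoint_comp _ _ _
  haveI : GeometricallyConnected f := Rigid.geometricallyConnected_of_section f σ hσ
  haveI := ClosedRep.GeomIntegral.geometricallyIntegral_of_smooth f
  haveI := AlgEquivCurve.smoothOfRelativeDimension_one f hdim
  obtain ⟨W, G, ξ, hp, hs, hgi, hW, h1, h0, hc, hmul⟩ := exists_jac f σ hσ hdim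
  letI := G
  haveI := hp
  haveI := hgi
  haveI : IsCommMonObj W := isCommMonObj_of_isProper_of_geometricallyIntegral W
  refine ⟨W, G, inferInstance, hp, hgi, hW, fun n hn => ?_⟩
  haveI : IsIso (SGA7.pt (K := k) k).hom := by
    show IsIso (Spec.map (CommRingCat.ofHom (algebraMap k k)))
    rw [show CommRingCat.ofHom (algebraMap k k) = 𝟙 (CommRingCat.of k) from rfl, Spec.map_id]
    infer_instance
  refine (Nat.card_congr (clEquiv X n)).trans ((natCard_torsion_congr (asIso (pullback.fst f (SGA7.pt (K := k) k).hom)) n).trans ?_)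
  exact natCard_torsion_eq f σ hσ hdim ξ h1 h0 hc hmul k hn

include hdim in
/-- The number of `n`-torsion classes. -/
theorem natCard_pic_torsion (n : ℕ) (hn : IsUnit (n : k)) :
    Nat.card {c : PicF.Cl X | ∃ M : Scheme.Modules X, PicF.cl M = c ∧ PicF.IsInvertible M ∧
      Nonempty (CohB1.tensorPow M n ≅ Coh.structureModule X)} = n ^ (2 * Curv2.genus k X) := by
  have hn' : (n : k) ≠ 0 := hn.ne_zero
  obtain ⟨W, G, _, hp, hgi, hW, hcard⟩ := exists_torsion_count (k := k) X hdim
  rw [hcard n (fun e => hn' (by rw [e, Nat.cast_zero]))]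
  exact natCard_torsPts_eq W hW k hn'

include hdim in
/-- The number of `p`-power torsion classes. -/
theorem exists_pic_pRank (p : ℕ) [Fact p.Prime] [CharP k p] :
    ∃ f : ℕ, f ≤ Curv2.genus k X ∧ ∀ m : ℕ, 1 ≤ m → Nat.card {c : PicF.Cl X | ∃ M : Scheme.Modules X,
      PicF.cl M = c ∧ PicF.IsInvertible M ∧ Nonempty (CohB1.tensorPow M (p ^ m) ≅ Coh.structureModule X)} =
      p ^ (m * f) := by
  obtain ⟨W, G, _, hp, hgi, hW, hcard⟩ := exists_torsion_count (k := k) X hdim
  haveI := hp
  haveI := hgi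
  obtain ⟨i, hi, hcardi, -⟩ := AVDeg.exists_pRank p (A := AVDeg.bcK k k W) (g := Curv2.genus k X)
    (by rw [AVDeg.topologicalKrullDim_bcK]; exact hW)
  refine ⟨i, hi, fun m _ => ?_⟩
  rw [hcard _ (pow_ne_zero _ (Fact.out : p.Prime).ne_zero), natCard_torsPts W hW k, hcardi m, ← pow_mul]

end Groth.Agent.JacTors
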