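import Groth.Agent.JacTors.Count
import Groth.Agent.FieldPow.Main
import Groth.Agent.FpqcDescent.Sep

/-!
The torsion of an abelian variety splits over a finite separable extension of bounded degree.
-/

set_option autoImplicit false
set_option backward.isDefEq.respectTransparency false
set_option backward.isDefEq.respectTransparency.types false
set_option linter.style.haveILetI false
set_option linter.unusedSectionVars false
set_option maxHeartbeats 1000000

universe u

open CategoryTheory CategoryTheory.Limits AlgebraicGeometry Opposite MonoidalCategory CartesianMonoidalCategory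
open scoped MonObj

noncomputable section

namespace Groth.Agent.JacTors

section Algebra

variable {K : Type u} [Field K] {B : Type u} [CommRing B] [Algebra K B] [Module.Finite K B]

/-- Algebra maps out of an unramified finite algebra have separable values. -/
theorem isSeparable_apply [Algebra.FormallyUnramified K B] {Ω : Type u} [Field Ω] [Algebra K Ω]
    (φ : B →ₐ[K] Ω) (b : B) : IsSeparable K (φ b) := by
  haveI : (RingHom.ker φ).IsPrime := RingHom.ker_isPrime φ
  haveI : IsArtinianRing B := IsArtinianRing.of_finite K B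
  haveI : (RingHom.ker φ).IsMaximal := IsArtinianRing.isMaximal_of_isPrime _
  letI : Field (B ⧸ RingHom.ker φ) := Ideal.Quotient.field _
  haveI : Algebra.FormallyUnramified K (B ⧸ RingHom.ker φ) :=
    Algebra.FormallyUnramified.of_surjective (Ideal.Quotient.mkₐ K (RingHom.ker φ)) Ideal.Quotient.mk_surjective
  haveI : Algebra.IsSeparable K (B ⧸ RingHom.ker φ) := Algebra.FormallyUnramified.isSeparable K _
  have h1 := Algebra.IsSeparable.isSeparable K (Ideal.Quotient.mk (RingHom.ker φ) b)
  have h2 := minpoly.algHom_eq (Ideal.kerLiftAlg φ) (Ideal.kerLiftAlg_injective φ) (Ideal.Quotient.mk (RingHom.ker φ) b)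
  rw [Ideal.kerLiftAlg_mk] at h2
  unfold IsSeparable at h1 ⊢
  rw [h2]
  exact h1

/-- A finite unramified algebra is split by a separable extension of degree at most factorial its points. -/
theorem exists_splitting [Algebra.FormallyUnramified K B] (N : ℕ)
    (hN : Nat.card (B →ₐ[K] AlgebraicClosure K) = N) (hN0 : N ≠ 0) :
    ∃ (L : Type u) (_ : Field L) (_ : Algebra K L), FiniteDimensional K L ∧ Algebra.IsSeparable K L ∧
      Module.finrank K L ≤ N.factorial ∧ Nat.card (B →ₐ[K] L) = N := by
  classical
  let Ω := AlgebraicClosure K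
  let S := B →ₐ[K] Ω
  haveI : Finite S := Nat.finite_of_card_ne_zero (hN.trans_ne hN0)
  let bas := Module.Free.chooseBasis K B
  let gens : S × Module.Free.ChooseBasisIndex K B → Ω := fun p => p.1 (bas p.2)
  let L := IntermediateField.adjoin K (Set.range gens)
  haveI : Finite (Set.range gens) := (Set.finite_range gens).to_subtype
  haveI hfd : FiniteDimensional K L :=
    IntermediateField.finiteDimensional_adjoin fun x _ => Algebra.IsIntegral.isIntegral x
  haveI hsep : Algebra.IsSeparable K L :=
    (IntermediateField.isSeparable_adjoin_iff_isSeparable K Ω).2 (by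
      rintro x ⟨p, rfl⟩
      exact isSeparable_apply p.1 _)
  have hmem : ∀ (φ : S) (b : B), φ b ∈ L := fun φ b => by
    rw [← bas.sum_repr b, map_sum]
    refine sum_mem fun i _ => ?_
    rw [map_smul]
    exact IntermediateField.smul_mem _ (IntermediateField.subset_adjoin K (Set.range gens) ⟨(φ, i), rfl⟩)
  let res : S → (B →ₐ[K] L) := fun φ => φ.codRestrict L.toSubalgebra (hmem φ)
  have hres : ∀ φ b, L.val (res φ b) = φ b := fun φ b => rfl
  have hcard : Nat.card (B →ₐ[K] L) = N := by
    rw [← hN]
    exact Nat.card_congr ⟨fun ψ => L.val.comp ψ, res,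
      fun ψ => AlgHom.ext fun b => Subtype.ext rfl, fun φ => AlgHom.ext (hres φ)⟩
  refine ⟨L, inferInstance, inferInstance, hfd, hsep, ?_, hcard⟩
  have hinj : ∀ τ : L →ₐ[K] Ω, Function.Injective fun φ : S => τ.comp (res φ) := fun τ φ ψ h => by
    refine AlgHom.ext fun b => ?_
    rw [← hres φ b, ← hres ψ b]
    exact congrArg L.val (τ.toRingHom.injective (AlgHom.congr_fun h b))
  let perm : (L →ₐ[K] Ω) → Equiv.Perm S := fun τ =>
    Equiv.ofBijective _ (Finite.injective_iff_bijective.1 (hinj τ))
  have hperm : Function.Injective perm := fun τ τ' h => by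
    refine IntermediateField.adjoin_algHom_ext K fun x hx => ?_
    obtain ⟨⟨φ, i⟩, rfl⟩ := hx
    exact AlgHom.congr_fun (congrArg (fun e : Equiv.Perm S => e φ) h) (bas i)
  letI := Fintype.ofFinite S
  have h1 := Nat.card_le_card_of_injective perm hperm
  rw [Nat.card_eq_fintype_card (α := Equiv.Perm S), Fintype.card_perm, ← Nat.card_eq_fintype_card, hN] at h1
  rwa [Nat.card_eq_fintype_card, AlgHom.card] at h1

end Algebra

section Torsion

variable {K : Type u} [Field K] (W : Over (Spec (CommRingCat.of K))) [GrpObj W] [IsCommMonObj W] (n : ℕ)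

/-- The kernel of multiplication by `n`. -/
def kerN : Scheme.{u} := pullback (𝟙 W ^ (n : ℤ)).left η[W].left

/-- The structure map of the kernel. -/
def kerSnd : kerN W n ⟶ Spec (CommRingCat.of K) := pullback.snd _ _

/-- Points of the kernel over an extension field. -/
def kerPtsEquiv (F : Type u) [Field F] [Algebra K F] :
    AbDual.torsPts W n (SGA7.pt (K := K) F) ≃
      {b : Spec (CommRingCat.of F) ⟶ kerN W n // b ≫ kerSnd W n = (SGA7.pt (K := K) F).hom} where
  toFun a := ⟨pullback.lift a.1.left (SGA7.pt (K := K) F).hom (by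
      have h : a.1 ≫ (𝟙 W ^ (n : ℤ)) = toUnit _ ≫ η[W] := by
        rw [GrpObj.comp_zpow, Category.comp_id, zpow_natCast, (AbDual.mem_torsPts W a.1).1 a.2]
        rfl
      exact congrArg CommaMorphism.left h), pullback.lift_snd _ _ _⟩
  invFun b := ⟨Over.homMk (b.1 ≫ pullback.fst _ _) (by
      have h : pullback.fst (𝟙 W ^ (n : ℤ)).left η[W].left ≫ W.hom = pullback.snd _ _ := by
        have h1 := congrArg (· ≫ W.hom) (pullback.condition (f := (𝟙 W ^ (n : ℤ)).left) (g := η[W].left))
        simp only [Category.assoc] at h1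
        rw [Over.w (𝟙 W ^ (n : ℤ)), Over.w η[W]] at h1
        exact h1.trans (Category.comp_id _)
      show (b.1 ≫ pullback.fst _ _) ≫ W.hom = _
      rw [Category.assoc, h]
      exact b.2), (AbDual.mem_torsPts W _).2 (by
      rw [← zpow_natCast, ← Category.comp_id (Over.homMk _ _), ← GrpObj.comp_zpow]
      refine Over.OverMorphism.ext ?_
      show (b.1 ≫ pullback.fst _ _) ≫ (𝟙 W ^ (n : ℤ)).left = (SGA7.pt (K := K) F).hom ≫ η[W].left
      rw [Category.assoc, pullback.condition, ← Category.assoc]
      exact congrArg (· ≫ η[W].left) b.2)⟩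
  left_inv a := Subtype.ext (Over.OverMorphism.ext (pullback.lift_fst _ _ _))
  right_inv b := Subtype.ext (pullback.hom_ext (pullback.lift_fst _ _ _)
    ((pullback.lift_snd _ _ _).trans b.2.symm))

variable [IsProper W.hom]

theorem etale_kerSnd (hn : (n : K) ≠ 0) : Etale (kerSnd W n) := by
  haveI : Etale (𝟙 W ^ (n : ℤ)).left := FieldPow.etale_pow W (by exact_mod_cast hn)
  exact inferInstanceAs (Etale (pullback.snd (𝟙 W ^ (n : ℤ)).left η[W].left))

theorem isFinite_kerSnd (hn : (n : K) ≠ 0) : IsFinite (kerSnd W n) := by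
  haveI : Etale (𝟙 W ^ (n : ℤ)).left := FieldPow.etale_pow W (by exact_mod_cast hn)
  haveI : IsProper ((𝟙 W ^ (n : ℤ)).left ≫ W.hom) := by rw [Over.w (𝟙 W ^ (n : ℤ))]; infer_instance
  haveI : IsProper (𝟙 W ^ (n : ℤ)).left := IsProper.of_comp _ W.hom
  haveI := FpqcDescent.locallyQuasiFinite_of_etale (𝟙 W ^ (n : ℤ)).left
  haveI := IsFinite.of_isProper_of_locallyQuasiFinite (𝟙 W ^ (n : ℤ)).left
  exact inferInstanceAs (IsFinite (pullback.snd (𝟙 W ^ (n : ℤ)).left η[W].left))

/-- The ring of functions of a scheme over a field as an algebra. -/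
@[reducible] def topAlgebra {P : Scheme.{u}} (q : P ⟶ Spec (CommRingCat.of K)) : Algebra K Γ(P, ⊤) :=
  ((Scheme.ΓSpecIso (CommRingCat.of K)).inv ≫ q.appTop).hom.toAlgebra

omit [GrpObj W] [IsCommMonObj W] [IsProper W.hom] in
/-- Points of an affine scheme over a field as algebra maps. -/
def affPtsEquiv {P : Scheme.{u}} [IsAffine P] (q : P ⟶ Spec (CommRingCat.of K)) (F : Type u) [Field F] [Algebra K F] :
    letI := topAlgebra q
    {b : Spec (CommRingCat.of F) ⟶ P // b ≫ q = (SGA7.pt (K := K) F).hom} ≃ (Γ(P, ⊤) →ₐ[K] F) :=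
  letI := topAlgebra q
  { toFun := fun b =>
      { toRingHom := (b.1.appTop ≫ (Scheme.ΓSpecIso (CommRingCat.of F)).hom).hom
        commutes' := fun r => by
          have h : (Scheme.ΓSpecIso (CommRingCat.of K)).inv ≫ q.appTop ≫ b.1.appTop ≫
              (Scheme.ΓSpecIso (CommRingCat.of F)).hom = CommRingCat.ofHom (algebraMap K F) := by
            rw [← Scheme.Hom.comp_appTop_assoc, b.2]
            exact (congrArg ((Scheme.ΓSpecIso (CommRingCat.of K)).inv ≫ ·)
              (Scheme.ΓSpecIso_naturality (CommRingCat.ofHom (algebraMap K F)))).trans (Iso.inv_hom_id_assoc _ _)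
          exact ConcreteCategory.congr_hom h r }
    invFun := fun φ => ⟨Spec.map (CommRingCat.ofHom φ.toRingHom) ≫ P.isoSpec.inv, by
      have h : CommRingCat.ofHom (algebraMap K F) =
          (Scheme.ΓSpecIso (CommRingCat.of K)).inv ≫ q.appTop ≫ CommRingCat.ofHom φ.toRingHom :=
        CommRingCat.hom_ext (RingHom.ext fun r => (φ.commutes r).symm)
      show (Spec.map _ ≫ P.isoSpec.inv) ≫ q = Spec.map (CommRingCat.ofHom (algebraMap K F))
      rw [h, Spec.map_comp, Spec.map_comp, Category.assoc, Category.assoc]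
      congr 1
      rw [← Scheme.isoSpec_inv_naturality q]
      congr 1
      exact Scheme.isoSpec_Spec_inv _⟩
    left_inv := fun b => Subtype.ext (by
      show Spec.map (b.1.appTop ≫ (Scheme.ΓSpecIso (CommRingCat.of F)).hom) ≫ P.isoSpec.inv = b.1
      rw [Spec.map_comp, Category.assoc, Scheme.isoSpec_inv_naturality]
      simp [Scheme.isoSpec])
    right_inv := fun φ => AlgHom.ext fun x => by
      have h : (Spec.map (CommRingCat.ofHom φ.toRingHom) ≫ P.isoSpec.inv).appTop ≫
          (Scheme.ΓSpecIso (CommRingCat.of F)).hom = CommRingCat.ofHom φ.toRingHom := by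
        rw [Scheme.Hom.comp_appTop, Category.assoc, Scheme.ΓSpecIso_naturality, ← Category.assoc]
        have h2 : P.isoSpec.inv.appTop ≫ (Scheme.ΓSpecIso Γ(P, ⊤)).hom = 𝟙 _ := by
          rw [← Scheme.toSpecΓ_appTop, ← Scheme.Hom.comp_appTop]
          simp [Scheme.isoSpec]
        exact (congrArg (· ≫ CommRingCat.ofHom φ.toRingHom) h2).trans (Category.id_comp _)
      exact ConcreteCategory.congr_hom h x }

/-- The torsion splits over a finite separable extension of degree bounded by the factorial of its order. -/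
theorem exists_split_torsion [GeometricallyIntegral W.hom] {g : ℕ}
    (hW : topologicalKrullDim W.left = (g : WithBot ℕ∞)) (hn : (n : K) ≠ 0) :
    ∃ (L : Type u) (_ : Field L) (_ : Algebra K L), FiniteDimensional K L ∧ Algebra.IsSeparable K L ∧
      Module.finrank K L ≤ (n ^ (2 * g)).factorial ∧
      Nat.card (AbDual.torsPts W n (SGA7.pt (K := K) L)) = n ^ (2 * g) := by
  haveI := isFinite_kerSnd W n hn
  haveI := etale_kerSnd W n hn
  haveI : IsAffine (kerN W n) := isAffine_of_isAffineHom (kerSnd W n)
  letI := topAlgebra (kerSnd W n)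
  haveI : Module.Finite K Γ(kerN W n, ⊤) := by
    have h := ((HasAffineProperty.iff_of_isAffine (P := @IsFinite) (f := kerSnd W n)).1 inferInstance).2
    exact h.comp (RingHom.Finite.of_surjective _ (Scheme.ΓSpecIso (CommRingCat.of K)).commRingCatIsoToRingEquiv.symm.surjective)
  haveI : Algebra.Etale K Γ(kerN W n, ⊤) := by
    have h := (HasRingHomProperty.iff_of_isAffine (P := @Etale) (f := kerSnd W n)).1 inferInstance
    exact RingHom.Etale.respectsIso.2 _ (Scheme.ΓSpecIso (CommRingCat.of K)).symm.commRingCatIsoToRingEquiv h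
  have hpts : ∀ (F : Type u) [Field F] [Algebra K F], Nat.card (AbDual.torsPts W n (SGA7.pt (K := K) F)) =
      Nat.card (Γ(kerN W n, ⊤) →ₐ[K] F) := fun F _ _ =>
    Nat.card_congr ((kerPtsEquiv W n F).trans (affPtsEquiv (kerSnd W n) F))
  have hn' : (n : AlgebraicClosure K) ≠ 0 := by
    rw [← map_natCast (algebraMap K (AlgebraicClosure K))]
    exact fun h => hn ((algebraMap K (AlgebraicClosure K)).injective (h.trans (map_zero _).symm))
  have hΩ := (hpts (AlgebraicClosure K)).symm.trans (natCard_torsPts_eq W hW (AlgebraicClosure K) hn')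
  obtain ⟨L, i1, i2, hfd, hsep, hdeg, hL⟩ := exists_splitting (n ^ (2 * g)) hΩ
    (pow_ne_zero _ fun h => hn (by rw [h, Nat.cast_zero]))
  exact ⟨L, i1, i2, hfd, hsep, hdeg, (hpts L).trans hL⟩

end Torsion

end Groth.Agent.JacTors
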